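import Cfsg.Agent.Lib.PRegTwo.Endgame

/-!
Groups whose `p`-regular conjugacy classes have two sizes have an abelian `p`-complement or are a product
of a central subgroup and a subgroup of order divisible by two primes only.
-/

set_option autoImplicit false
set_option linter.style.haveILetI false
set_option linter.unusedSectionVars false

namespace CfsgLib.PRegTwo

open Subgroup CfsgLib.FGS.TwoLargest CfsgLib.ConjVector
open scoped Pointwise

variable {G : Type*} [Group G] [Finite G]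

/-- Case of two primes: the regular elements of a centralizer form an abelian complement. -/
theorem Hyp.exists_complement {p m : ℕ} (D : Hyp G p m) (hT : TwoP G p) :
    ∃ H : Subgroup G, IsMulCommutative H ∧ ¬ p ∣ Nat.card H ∧ ∃ k : ℕ, H.index = p ^ k := by
  haveI := Fact.mk D.hp
  obtain ⟨q, r, hq, hr, hqr, hqp, hrp, ⟨x, hxq, hxc⟩, hHr⟩ := id hT
  have hx := reg_of_pel D.hp hq hqp hxq
  let H : Subgroup G :=
    { carrier := {y | y ∈ Cent x ∧ Reg p y}
      one_mem' := ⟨one_mem _, by simp [Reg]⟩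
      mul_mem' := fun {a b} ha hb => ⟨mul_mem ha.1 hb.1, ha.2.mul hb.2 (D.commute hT hx hxc ha.2 ha.1 hb.1)⟩
      inv_mem' := fun {a} ha => ⟨inv_mem ha.1, by
        show (orderOf a⁻¹).Coprime p
        rw [orderOf_inv]
        exact ha.2⟩ }
  refine ⟨H, ⟨⟨fun a b => Subtype.ext (D.commute hT hx hxc a.2.2 a.2.1 b.2.1).eq⟩⟩, fun h => ?_, _,
    Nat.eq_prime_pow_of_unique_prime_dvd index_ne_zero_of_finite fun {s} hs hsd => ?_⟩
  · obtain ⟨y, hy⟩ := exists_prime_orderOf_dvd_card' p h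
    have : (orderOf (y : G)).Coprime p := y.2.2
    rw [orderOf_coe, hy, Nat.coprime_self] at this
    exact D.hp.ne_one this
  · by_contra hsp
    haveI := Fact.mk hs
    obtain ⟨T, hTC, hTp, hTc⟩ := exists_full s (Cent x)
    have hTH : T ≤ H := fun y hy => ⟨hTC hy, reg_of_pel D.hp hs hsp (IsPEl.of_mem hTp hy)⟩
    have h1 := nu_cent_add s x
    rw [D.eq x hx hxc, Nat.factorization_eq_zero_of_not_dvd (D.only_p hT hs hsp), add_zero] at h1
    have h2 : s * s ^ (Nat.card G).factorization s ∣ Nat.card G := by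
      rw [← h1, ← hTc, ← H.card_mul_index, mul_comm s]
      exact Nat.mul_dvd_mul (card_dvd_of_le hTH) hsd
    rw [← pow_succ'] at h2
    have := (hs.pow_dvd_iff_le_factorization Nat.card_pos.ne').1 h2
    omega

/-- Case of one prime: a product with a central subgroup. -/
theorem exists_product {p q : ℕ} [hq : Fact q.Prime] (hp : p.Prime) (hqp : q ≠ p)
    (hc : ∀ s : ℕ, s.Prime → s ≠ p → s ≠ q → ¬ Has G s) :
    ∃ (P : Sylow p G) (Q : Sylow q G) (A : Subgroup G),
        A ≤ Subgroup.center G ∧ Nat.card ↥((P : Subgroup G) ⊔ (Q : Subgroup G)) = Nat.card P * Nat.card Q ∧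
        ((P : Subgroup G) ⊔ (Q : Subgroup G)).Normal ∧
        ((P : Subgroup G) ⊔ (Q : Subgroup G)) ⊓ A = ⊥ ∧ ((P : Subgroup G) ⊔ (Q : Subgroup G)) ⊔ A = ⊤ := by
  haveI := Fact.mk hp
  let A : Subgroup G :=
    { carrier := {z | z ∈ center G ∧ (orderOf z).Coprime (p * q)}
      one_mem' := ⟨one_mem _, by simp⟩
      mul_mem' := fun {a b} ha hb => ⟨mul_mem ha.1 hb.1,
        (Nat.Coprime.mul_left ha.2 hb.2).coprime_dvd_left
          ((Commute.orderOf_mul_dvd_lcm (mem_center_iff.1 hb.1 a)).trans (Nat.lcm_dvd_mul _ _))⟩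
      inv_mem' := fun {a} ha => ⟨inv_mem ha.1, by rw [orderOf_inv]; exact ha.2⟩ }
  have hAc : A ≤ center G := fun z hz => hz.1
  haveI hAn : A.Normal := ⟨fun z hz g => by
    rwa [mem_center_iff.1 (hAc hz) g, mul_inv_cancel_right]⟩
  have hA0 : Nat.card A ≠ 0 := Nat.card_pos.ne'
  have hnd : ∀ s : ℕ, s.Prime → s ∣ p * q → ¬ s ∣ Nat.card A := by
    intro s hs hspq h
    haveI := Fact.mk hs
    obtain ⟨z, hz⟩ := exists_prime_orderOf_dvd_card' s h
    have : (orderOf (z : G)).Coprime (p * q) := z.2.2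
    rw [orderOf_coe, hz] at this
    exact (hs.coprime_iff_not_dvd.1 this) hspq
  have hfac : ∀ s : ℕ, s.Prime → s ≠ p → s ≠ q →
      (Nat.card A).factorization s = (Nat.card G).factorization s := by
    intro s hs hsp hsq
    haveI := Fact.mk hs
    refine le_antisymm ((Nat.factorization_le_iff_dvd hA0 Nat.card_pos.ne').2 (card_subgroup_dvd_card A) s) ?_
    obtain ⟨S⟩ : Nonempty (Sylow s G) := inferInstance
    refine (hs.pow_dvd_iff_le_factorization hA0).1 (S.card_eq_multiplicity ▸ card_dvd_of_le fun z hz => ?_)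
    have hzp := IsPEl.of_mem S.2 hz
    refine ⟨by_contra fun h => hc s hs hsp hsq ⟨z, hzp, h⟩, ?_⟩
    obtain ⟨k, hk⟩ := hzp
    rw [hk]
    exact (Nat.Coprime.mul_right ((Nat.coprime_primes hs hp).2 hsp) ((Nat.coprime_primes hs hq.out).2 hsq)).pow_left k
  have hcop : (Nat.card A).Coprime A.index := by
    refine Nat.coprime_of_dvd fun s hs hsA hsI => ?_
    have hsp : s ≠ p := fun h => hnd s hs (h ▸ dvd_mul_right p q) hsA
    have hsq : s ≠ q := fun h => hnd s hs (h ▸ dvd_mul_left q p) hsA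
    have h1 := congrArg (fun n : ℕ => n.factorization s) A.card_mul_index
    simp only [Nat.factorization_mul hA0 index_ne_zero_of_finite, Finsupp.add_apply, hfac s hs hsp hsq] at h1
    have := hs.factorization_pos_of_dvd index_ne_zero_of_finite hsI
    omega
  obtain ⟨K, hK⟩ := Subgroup.exists_right_complement'_of_coprime hcop
  haveI hKn : K.Normal := ⟨fun k hk g => by
    obtain ⟨a, ha, k', hk', rfl⟩ : g ∈ (A : Set G) * (K : Set G) := by
      rw [hK.mul_eq]; trivial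
    rw [show a * k' * k * (a * k')⁻¹ = a * (k' * k * k'⁻¹) * a⁻¹ by group,
      ← mem_center_iff.1 (hAc ha) (k' * k * k'⁻¹), mul_inv_cancel_right]
    exact mul_mem (mul_mem hk' hk) (inv_mem hk')⟩
  have hKA : Nat.card A * Nat.card K = Nat.card G := hK.card_mul_card
  have hin : ∀ (s : ℕ) [Fact s.Prime] (S : Sylow s G), s ∣ p * q → (S : Subgroup G) ≤ K := by
    intro s hs S hspq g hg
    rw [← QuotientGroup.eq_one_iff (N := K), ← orderOf_eq_one_iff]
    obtain ⟨k, hk⟩ := IsPEl.of_mem S.2 hg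
    refine Nat.eq_one_of_dvd_coprimes ((hs.out.coprime_iff_not_dvd.2 (hnd s hs.out hspq)).pow_left k)
      ((orderOf_map_dvd (QuotientGroup.mk' K) g).trans (dvd_of_eq hk)) ?_
    refine (_root_.orderOf_dvd_natCard _).trans (dvd_of_eq ?_)
    rw [← index_eq_card]
    exact Nat.eq_of_mul_eq_mul_left Nat.card_pos (K.card_mul_index.trans (hKA.symm.trans (mul_comm _ _)))
  obtain ⟨P⟩ : Nonempty (Sylow p G) := inferInstance
  obtain ⟨Q⟩ : Nonempty (Sylow q G) := inferInstance
  have hle : (P : Subgroup G) ⊔ (Q : Subgroup G) ≤ K :=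
    sup_le (hin p P (dvd_mul_right p q)) (hin q Q (dvd_mul_left q p))
  have hPQ : (Nat.card P).Coprime (Nat.card Q) := by
    rw [P.card_eq_multiplicity, Q.card_eq_multiplicity]
    exact Nat.Coprime.pow _ _ ((Nat.coprime_primes hp hq.out).2 hqp.symm)
  have hdvd : Nat.card P * Nat.card Q ∣ Nat.card ↥((P : Subgroup G) ⊔ (Q : Subgroup G)) :=
    hPQ.mul_dvd_of_dvd_of_dvd (card_dvd_of_le le_sup_left) (card_dvd_of_le le_sup_right)
  have hKc : Nat.card K = Nat.card P * Nat.card Q := by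
    refine Nat.eq_of_mul_eq_mul_left (Nat.pos_of_ne_zero hA0) (hKA.trans ?_)
    refine Nat.eq_of_factorization_eq Nat.card_pos.ne' (Nat.mul_ne_zero hA0 (Nat.mul_ne_zero Nat.card_pos.ne' Nat.card_pos.ne')) fun s => ?_
    by_cases hs : s.Prime
    swap
    · rw [Nat.factorization_eq_zero_of_not_prime _ hs, Nat.factorization_eq_zero_of_not_prime _ hs]
    rw [Nat.factorization_mul hA0 (Nat.mul_ne_zero Nat.card_pos.ne' Nat.card_pos.ne'),
      Nat.factorization_mul Nat.card_pos.ne' Nat.card_pos.ne', P.card_eq_multiplicity, Q.card_eq_multiplicity,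
      Nat.Prime.factorization_pow hp, Nat.Prime.factorization_pow hq.out]
    by_cases h1 : s = p
    · subst h1
      simp [Nat.factorization_eq_zero_of_not_dvd (hnd s hs (dvd_mul_right s q)), hqp]
    by_cases h2 : s = q
    · subst h2
      simp [Nat.factorization_eq_zero_of_not_dvd (hnd s hs (dvd_mul_left s p)), Ne.symm hqp]
    simp [hfac s hs h1 h2, Ne.symm h1, Ne.symm h2]
  have heq : (P : Subgroup G) ⊔ (Q : Subgroup G) = K :=
    eq_of_le_of_card_ge hle (hKc ▸ Nat.le_of_dvd Nat.card_pos hdvd)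
  refine ⟨P, Q, A, hAc, ?_⟩
  rw [heq]
  exact ⟨hKc, hKn, disjoint_iff.1 hK.disjoint.symm, by
    rw [sup_comm]; exact hK.sup_eq_top⟩

/-- The classification. -/
theorem classify {p : ℕ} (hp : p.Prime)
    (h2 : Set.ncard (Set.range fun x : {x : G // (orderOf x).Coprime p} =>
      (ConjClasses.mk (x : G)).carrier.ncard) = 2) :
    (∃ H : Subgroup G, IsMulCommutative H ∧ ¬ p ∣ Nat.card H ∧ ∃ k : ℕ, H.index = p ^ k) ∨
    (∃ (q : ℕ) (_ : Fact q.Prime) (P : Sylow p G) (Q : Sylow q G) (A : Subgroup G), q ≠ p ∧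
        A ≤ Subgroup.center G ∧ Nat.card ↥((P : Subgroup G) ⊔ (Q : Subgroup G)) = Nat.card P * Nat.card Q ∧
        ((P : Subgroup G) ⊔ (Q : Subgroup G)).Normal ∧
        ((P : Subgroup G) ⊔ (Q : Subgroup G)) ⊓ A = ⊥ ∧ ((P : Subgroup G) ⊔ (Q : Subgroup G)) ⊔ A = ⊤) := by
  simp only [CfsgLib.FGS.ncard_carrier_mk] at h2
  obtain ⟨a, b, hab, hR⟩ := Set.ncard_eq_two.1 h2
  have h1 : (1 : ℕ) ∈ ({a, b} : Set ℕ) := hR ▸ ⟨⟨1, by simp⟩, cls_eq_one.2 (one_mem _)⟩
  obtain ⟨m, hm1, hm⟩ : ∃ m, m ≠ 1 ∧ ({a, b} : Set ℕ) = {1, m} := by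
    rcases h1 with h | h
    · exact ⟨b, fun hb => hab (h.symm.trans hb.symm), by rw [← h]⟩
    · rw [Set.mem_singleton_iff] at h
      exact ⟨a, fun ha => hab (ha.trans h), by rw [← h, Set.pair_comm]⟩
  rw [hm] at hR
  have D : Hyp G p m := ⟨hp, fun x hx hxc => by
    have : cls x ∈ ({1, m} : Set ℕ) := hR ▸ ⟨⟨x, hx⟩, rfl⟩
    rcases this with h | h
    · exact absurd (cls_eq_one.1 h) hxc
    · exact h⟩
  obtain ⟨⟨x, hx⟩, hxm⟩ := hR.ge (Set.mem_insert_of_mem 1 (Set.mem_singleton m))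
  have hxc : x ∉ center G := fun h => hm1 (hxm.symm.trans (cls_eq_one.2 h))
  by_cases hT : TwoP G p
  · exact Or.inl (D.exists_complement hT)
  obtain ⟨q, hq, hqp, u, -, hu, huc, -⟩ := D.exists_part hx hxc
  haveI := Fact.mk hq
  obtain ⟨P, Q, A, h⟩ := exists_product hp hqp fun s hs hsp hsq hH =>
    hT ⟨s, q, hs, hq, hsq, hsp, hqp, hH, u, hu, huc⟩
  exact Or.inr ⟨q, ⟨hq⟩, P, Q, A, hqp, h⟩

end CfsgLib.PRegTwo
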