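import Cfsg.Agent.Lib.ConjVector.Basic

/-!
Groups whose `p`-regular conjugacy classes have two sizes: basic lemmas.

When two primes other than `p` have noncentral elements, the centralizer of a noncentral `p`-regular
element is the centralizer of every noncentral `p`-regular element in it.
-/

set_option autoImplicit false
set_option linter.style.haveILetI false
set_option linter.unusedSectionVars false

namespace CfsgLib.PRegTwo

open Subgroup CfsgLib.FGS.TwoLargest CfsgLib.ConjVector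

variable {G : Type*} [Group G] [Finite G]

/-- The order is prime to `p`. -/
def Reg (p : ℕ) (x : G) : Prop := (orderOf x).Coprime p

/-- There is a noncentral `s`-element. -/
def Has (G : Type*) [Group G] (s : ℕ) : Prop := ∃ u : G, IsPEl s u ∧ u ∉ center G

/-- The hypotheses. -/
structure Hyp (G : Type*) [Group G] [Finite G] (p m : ℕ) : Prop where
  hp : p.Prime
  eq : ∀ x : G, Reg p x → x ∉ center G → cls x = m

theorem reg_of_pel {p s : ℕ} (hp : p.Prime) (hs : s.Prime) (hsp : s ≠ p) {u : G} (hu : IsPEl s u) :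
    Reg p u := by
  obtain ⟨k, hk⟩ := hu
  rw [Reg, hk]
  exact ((Nat.coprime_primes hs hp).2 hsp).pow_left k

theorem Reg.of_mem_zpowers {p : ℕ} {x a : G} (h : Reg p x) (ha : a ∈ zpowers x) : Reg p a :=
  h.coprime_dvd_left (orderOf_dvd_of_mem_zpowers ha)

theorem Reg.mul {p : ℕ} {x y : G} (hx : Reg p x) (hy : Reg p y) (hxy : Commute x y) : Reg p (x * y) :=
  (Nat.Coprime.mul_left hx hy).coprime_dvd_left
    (hxy.orderOf_mul_dvd_lcm.trans (Nat.lcm_dvd_mul _ _))

theorem Reg.conj {p : ℕ} {x : G} (h : Reg p x) (g : G) : Reg p (g * x * g⁻¹) := by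
  have : orderOf (g * x * g⁻¹) = orderOf x :=
    orderOf_injective (MulAut.conj g).toMonoidHom (MulAut.conj g).injective x
  rwa [Reg, this]

theorem IsPEl.mul {s : ℕ} (hs : s.Prime) {a b : G} (hab : Commute a b) (ha : IsPEl s a) (hb : IsPEl s b) :
    IsPEl s (a * b) := by
  obtain ⟨i, hi⟩ := ha
  obtain ⟨j, hj⟩ := hb
  have h : orderOf (a * b) ∣ s ^ (i + j) := by
    rw [pow_add, ← hi, ← hj]
    exact hab.orderOf_mul_dvd_lcm.trans (Nat.lcm_dvd_mul _ _)
  obtain ⟨k, -, hk⟩ := (Nat.dvd_prime_pow hs).1 h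
  exact ⟨k, hk⟩

theorem IsPEl.inv {s : ℕ} {a : G} (ha : IsPEl s a) : IsPEl s a⁻¹ := by
  obtain ⟨i, hi⟩ := ha
  exact ⟨i, by rw [orderOf_inv, hi]⟩

theorem isPEl_one {s : ℕ} : IsPEl s (1 : G) := ⟨0, by simp⟩

variable {p m : ℕ}

theorem Hyp.cent_eq (D : Hyp G p m) {x y : G} (hx : Reg p x) (hxc : x ∉ center G) (hy : Reg p y)
    (hyc : y ∉ center G) (h : Cent x ≤ Cent y) : Cent x = Cent y :=
  centralizer_eq_of_cls h ((D.eq x hx hxc).trans (D.eq y hy hyc).symm)

theorem Hyp.cent_le (D : Hyp G p m) {x y : G} (hx : Reg p x) (hxc : x ∉ center G) (hy : Reg p y)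
    (hyx : y ∈ Cent x) (hco : (orderOf x).Coprime (orderOf y)) : Cent x ≤ Cent y := by
  have hxy : Commute x y := (commute_iff.1 hyx).symm
  have h : Cent (x * y) = Cent x ⊓ Cent y := cent_mul hxy hco
  have hc : x * y ∉ center G := by
    intro hc
    refine hxc (cls_eq_one.1 ?_)
    have h1 : cls (x * y) = 1 := cls_eq_one.2 hc
    have h2 : cls x ∣ cls (x * y) := cls_dvd (h.le.trans inf_le_left)
    rw [h1] at h2
    exact Nat.dvd_one.1 h2
  have h3 := D.cent_eq (hx.mul hy hxy) hc hx hxc (h.le.trans inf_le_left)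
  exact h3.ge.trans (h.le.trans inf_le_right)

/-- A noncentral `p`-regular element has a prime power part with the same centralizer. -/
theorem Hyp.exists_part (D : Hyp G p m) {x : G} (hx : Reg p x) (hxc : x ∉ center G) :
    ∃ s : ℕ, s.Prime ∧ s ≠ p ∧ ∃ a ∈ zpowers x, IsPEl s a ∧ a ∉ center G ∧ Cent x = Cent a := by
  obtain ⟨s, hs, a, ha, hsa, hac⟩ := exists_noncentral_part hxc
  refine ⟨s, hs, fun h => hac ?_, a, ha, hsa, hac,
    D.cent_eq hx hxc (hx.of_mem_zpowers ha) hac (centralizer_le_of_mem_zpowers ha)⟩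
  subst h
  obtain ⟨k, hk⟩ := hsa
  have h1 : (orderOf a).Coprime s := hx.of_mem_zpowers ha
  rcases Nat.eq_zero_or_pos k with rfl | hk0
  · rw [pow_zero, orderOf_eq_one_iff] at hk
    exact hk ▸ one_mem _
  · rw [hk, Nat.coprime_pow_left_iff hk0, Nat.coprime_self] at h1
    exact absurd h1 hs.ne_one

/-- Two primes other than `p` have noncentral elements. -/
def TwoP (G : Type*) [Group G] (p : ℕ) : Prop :=
  ∃ q r : ℕ, q.Prime ∧ r.Prime ∧ q ≠ r ∧ q ≠ p ∧ r ≠ p ∧ Has G q ∧ Has G r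

theorem TwoP.other (h : TwoP G p) (s : ℕ) : ∃ t : ℕ, t.Prime ∧ t ≠ s ∧ t ≠ p ∧ Has G t := by
  obtain ⟨q, r, hq, hr, hqr, hqp, hrp, hHq, hHr⟩ := h
  by_cases hqs : q = s
  · exact ⟨r, hr, fun h => hqr (hqs.trans h.symm), hrp, hHr⟩
  · exact ⟨q, hq, hqs, hqp, hHq⟩

/-- Every centralizer of a noncentral `p`-regular element has noncentral elements for all the primes. -/
theorem Hyp.exists_pel (D : Hyp G p m) {x : G} (hx : Reg p x) (hxc : x ∉ center G) {s : ℕ} (hs : s.Prime)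
    (hsp : s ≠ p) (hH : Has G s) : ∃ y ∈ Cent x, IsPEl s y ∧ y ∉ center G := by
  haveI := Fact.mk hs
  by_contra hcon
  push Not at hcon
  obtain ⟨T, hTC, hTp, hTc⟩ := exists_full s (Cent x)
  obtain ⟨w, hw, hwc⟩ := hH
  have hTZ : T ≤ center G := fun t ht => hcon t (hTC ht) (IsPEl.of_mem hTp ht)
  have hnu : nu s (Cent w) = nu s (Cent x) := by
    have h1 := nu_cent_add s w
    have h2 := nu_cent_add s x
    rw [D.eq w (reg_of_pel D.hp hs hsp hw) hwc] at h1
    rw [D.eq x hx hxc] at h2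
    omega
  haveI : T.Normal := ⟨fun t ht g => by
    rwa [mem_center_iff.1 (hTZ ht) g, mul_inv_cancel_right]⟩
  have hle : T ⊔ zpowers w ≤ Cent w := sup_le (fun t ht => commute_iff.2 (mem_center_iff.1 (hTZ ht) w).symm)
    ((zpowers_le).2 (commute_iff.2 (Commute.refl w)))
  have hR : IsPGroup s ↥(T ⊔ zpowers w) := hTp.to_sup_of_normal_left hw.isPGroup
  have hcard := card_le_of_isPGroup hR hle
  rw [hnu, ← hTc] at hcard
  have heq : T = T ⊔ zpowers w := eq_of_le_of_card_ge le_sup_left hcard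
  exact hwc (hTZ (heq.ge (mem_sup_right (mem_zpowers w))))

/-- The centralizer of a noncentral `p`-regular element is that of all those in it. -/
theorem Hyp.key (D : Hyp G p m) (hT : TwoP G p) {x y : G} (hx : Reg p x) (hxc : x ∉ center G)
    (hy : Reg p y) (hyc : y ∉ center G) (hyx : y ∈ Cent x) : Cent y = Cent x := by
  obtain ⟨q, hq, hqp, a, ha, hqa, hac, hxa⟩ := D.exists_part hx hxc
  obtain ⟨s, hs, hsp, b, hb, hsb, hbc, hyb⟩ := D.exists_part hy hyc
  have hbC : b ∈ Cent a := hxa ▸ zpowers_le.2 hyx hb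
  have hra := reg_of_pel D.hp hq hqp hqa
  have hrb := reg_of_pel D.hp hs hsp hsb
  rw [hxa, hyb]
  by_cases hsq : s = q
  · subst hsq
    obtain ⟨t, ht, hts, htp, hHt⟩ := hT.other s
    obtain ⟨c, hc, htc, hcc⟩ := D.exists_pel hra hac ht htp hHt
    have hrc := reg_of_pel D.hp ht htp htc
    have h1 := D.cent_eq hra hac hrc hcc (D.cent_le hra hac hrc hc (hqa.coprime hs ht hts.symm htc))
    have h2 := D.cent_eq hrc hcc hrb hbc (D.cent_le hrc hcc hrb (h1 ▸ hbC) (htc.coprime ht hs hts hsb))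
    exact (h1.trans h2).symm
  · exact (D.cent_eq hra hac hrb hbc
      (D.cent_le hra hac hrb hbC (hqa.coprime hq hs (fun h => hsq h.symm) hsb))).symm

theorem Hyp.le_cent (D : Hyp G p m) (hT : TwoP G p) {x y : G} (hx : Reg p x) (hxc : x ∉ center G)
    (hy : Reg p y) (hyx : y ∈ Cent x) : Cent x ≤ Cent y := by
  by_cases hyc : y ∈ center G
  · exact fun g _ => commute_iff.2 (mem_center_iff.1 hyc g)
  · exact (D.key hT hx hxc hy hyc hyx).ge

theorem Hyp.commute (D : Hyp G p m) (hT : TwoP G p) {x y₁ y₂ : G} (hx : Reg p x) (hxc : x ∉ center G)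
    (h₁ : Reg p y₁) (h₁x : y₁ ∈ Cent x) (h₂x : y₂ ∈ Cent x) : Commute y₁ y₂ :=
  (commute_iff.1 (D.le_cent hT hx hxc h₁ h₁x h₂x)).symm

/-- An element commuting with a noncentral `p`-regular element of a centralizer lies in it. -/
theorem Hyp.semireg (D : Hyp G p m) (hT : TwoP G p) {x y f : G} (hx : Reg p x) (hxc : x ∉ center G)
    (hy : Reg p y) (hyc : y ∉ center G) (hyx : y ∈ Cent x) (hf : Commute f y) : f ∈ Cent x :=
  D.key hT hx hxc hy hyc hyx ▸ commute_iff.2 hf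

/-- A prime dividing the class size has noncentral elements. -/
theorem Hyp.has_of_dvd (D : Hyp G p m) {x : G} (hx : Reg p x) (hxc : x ∉ center G) {s : ℕ} (hs : s.Prime)
    (hsm : s ∣ m) : Has G s := by
  haveI := Fact.mk hs
  by_contra hcon
  simp only [Has, not_exists, not_and, not_not] at hcon
  obtain ⟨P⟩ : Nonempty (Sylow s G) := inferInstance
  have hP : (P : Subgroup G) ≤ Cent x := fun g hg =>
    commute_iff.2 (mem_center_iff.1 (hcon g (IsPEl.of_mem P.2 hg)) x).symm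
  refine P.not_dvd_index (dvd_trans ?_ (Subgroup.index_dvd_of_le hP))
  rw [← D.eq x hx hxc] at hsm
  exact hsm

/-- The `s`-elements of a centralizer. -/
def Hyp.part (D : Hyp G p m) (hT : TwoP G p) {x : G} (hx : Reg p x) (hxc : x ∉ center G) {s : ℕ}
    (hs : s.Prime) (hsp : s ≠ p) : Subgroup G where
  carrier := {y | y ∈ Cent x ∧ IsPEl s y}
  one_mem' := ⟨one_mem _, isPEl_one⟩
  mul_mem' := fun {a b} ha hb => ⟨mul_mem ha.1 hb.1,
    IsPEl.mul hs (D.commute hT hx hxc (reg_of_pel D.hp hs hsp ha.2) ha.1 hb.1) ha.2 hb.2⟩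
  inv_mem' := fun {a} ha => ⟨inv_mem ha.1, IsPEl.inv ha.2⟩

theorem Hyp.mem_part (D : Hyp G p m) (hT : TwoP G p) {x : G} (hx : Reg p x) (hxc : x ∉ center G) {s : ℕ}
    (hs : s.Prime) (hsp : s ≠ p) {y : G} :
    y ∈ D.part hT hx hxc hs hsp ↔ y ∈ Cent x ∧ IsPEl s y := Iff.rfl

theorem Hyp.isPGroup_part (D : Hyp G p m) (hT : TwoP G p) {x : G} (hx : Reg p x) (hxc : x ∉ center G) {s : ℕ}
    [hs : Fact s.Prime] (hsp : s ≠ p) : IsPGroup s ↥(D.part hT hx hxc hs.out hsp) := by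
  refine IsPGroup.iff_orderOf.2 fun y => ?_
  obtain ⟨k, hk⟩ := y.2.2
  exact ⟨k, by rw [← orderOf_coe, hk]⟩

theorem Hyp.card_part (D : Hyp G p m) (hT : TwoP G p) {x : G} (hx : Reg p x) (hxc : x ∉ center G) {s : ℕ}
    [hs : Fact s.Prime] (hsp : s ≠ p) :
    Nat.card ↥(D.part hT hx hxc hs.out hsp) = s ^ nu s (Cent x) := by
  refine le_antisymm (card_le_of_isPGroup (D.isPGroup_part hT hx hxc hsp) fun y hy => hy.1) ?_
  obtain ⟨T, hTC, hTp, hTc⟩ := exists_full s (Cent x)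
  rw [← hTc]
  exact card_le_of_le fun y hy => ⟨hTC hy, IsPEl.of_mem hTp hy⟩

/-- The normalizer of a centralizer. -/
abbrev Nor (x : G) : Subgroup G := normalizer ((Cent x : Subgroup G) : Set G)

theorem Hyp.mem_nor (D : Hyp G p m) (hT : TwoP G p) {x y g : G} (hx : Reg p x) (hxc : x ∉ center G)
    (hy : Reg p y) (hyc : y ∉ center G) (hyx : y ∈ Cent x) (hg : g * y * g⁻¹ ∈ Cent x) : g ∈ Nor x := by
  have h1 := D.key hT hx hxc hy hyc hyx
  have h2 := D.key hT hx hxc (hy.conj g) (fun h => hyc (conj_mem_center_iff.1 h)) hg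
  refine mem_normalizer_iff.2 fun v => ?_
  constructor
  · intro hv
    rw [← h2]
    exact commute_iff.2 (commute_conj (commute_iff.1 (h1.ge hv)) g)
  · intro hv
    rw [← h1]
    exact commute_iff.2 (commute_conj' (commute_iff.1 (h2.ge hv)))

theorem Hyp.cent_le_nor (x : G) : Cent x ≤ Nor x := le_normalizer

theorem conj_mem_cent {x g v : G} (hg : g ∈ Nor x) (hv : v ∈ Cent x) : g * v * g⁻¹ ∈ Cent x :=
  (mem_normalizer_iff.1 hg v).1 hv

theorem Hyp.conj_mem_part (D : Hyp G p m) (hT : TwoP G p) {x g v : G} (hx : Reg p x) (hxc : x ∉ center G)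
    {s : ℕ} (hs : s.Prime) (hsp : s ≠ p) (hg : g ∈ Nor x) (hv : v ∈ D.part hT hx hxc hs hsp) :
    g * v * g⁻¹ ∈ D.part hT hx hxc hs hsp :=
  ⟨conj_mem_cent hg hv.1, hv.2.conj g⟩

theorem conj_pow_of_central {f y z : G} (hz : z ∈ center G) (h : f * y * f⁻¹ = z * y) (i : ℕ) :
    f ^ i * y * (f ^ i)⁻¹ = z ^ i * y := by
  induction i with
  | zero => simp
  | succ i ih =>
    have hc : f ^ i * z = z * f ^ i := mem_center_iff.1 hz (f ^ i)
    calc f ^ (i + 1) * y * (f ^ (i + 1))⁻¹ = f ^ i * (f * y * f⁻¹) * (f ^ i)⁻¹ := by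
          rw [pow_succ]; group
      _ = z * (f ^ i * y * (f ^ i)⁻¹) := by rw [h, ← mul_assoc, hc]; group
      _ = z ^ (i + 1) * y := by rw [ih, ← mul_assoc, ← pow_succ']

/-- Coprime fixed points modulo the centre. -/
theorem Hyp.semireg_pow (D : Hyp G p m) (hT : TwoP G p) {x y f : G} (hx : Reg p x) (hxc : x ∉ center G)
    {s : ℕ} (hs : s.Prime) (hsp : s ≠ p) (hy : y ∈ D.part hT hx hxc hs hsp) (hyc : y ∉ center G)
    (hf : f ∈ Nor x) (hz : f * y * f⁻¹ * y⁻¹ ∈ center G) {n : ℕ} (hn : f ^ n ∈ Cent x)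
    (hco : n.Coprime s) : f ∈ Cent x := by
  set z := f * y * f⁻¹ * y⁻¹ with hzdef
  have hzy : f * y * f⁻¹ = z * y := by rw [hzdef]; group
  have hzP : z ∈ D.part hT hx hxc hs hsp :=
    mul_mem (D.conj_mem_part hT hx hxc hs hsp hf hy) (inv_mem hy)
  have h1 := conj_pow_of_central hz hzy n
  have h2 : Commute (f ^ n) y :=
    commute_iff.1 (D.le_cent hT hx hxc (reg_of_pel D.hp hs hsp hy.2) hy.1 hn)
  rw [h2.eq, mul_inv_cancel_right] at h1
  have hzn : z ^ n = 1 := mul_eq_right.1 h1.symm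
  obtain ⟨k, hk⟩ := hzP.2
  have h3 : orderOf z ∣ 1 := by
    rw [← (hco.pow_right k)]
    exact Nat.dvd_gcd (orderOf_dvd_of_pow_eq_one hzn) (dvd_of_eq hk)
  rw [Nat.dvd_one, orderOf_eq_one_iff] at h3
  refine D.semireg hT hx hxc (reg_of_pel D.hp hs hsp hy.2) hyc hy.1 ?_
  exact mul_inv_eq_iff_eq_mul.1 (by rw [hzy, h3, one_mul])

end CfsgLib.PRegTwo
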