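import Cfsg.Agent.Lib.PRegTwo.Factor
import Cfsg.Agent.Lib.Char.PrimePowerClass
import Cfsg.Agent.Lib.Cores.Coprime

/-!
Groups whose `p`-regular conjugacy classes have two sizes: with two primes besides `p` having noncentral
elements, the class size is a power of `p`.
-/

set_option autoImplicit false
set_option linter.style.haveILetI false
set_option linter.unusedSectionVars false

namespace CfsgLib.PRegTwo

open Subgroup CfsgLib.FGS.TwoLargest CfsgLib.ConjVector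
open Cfsg (pCore)

universe u

/-- A noncentral `s`-subgroup has an element central in it modulo the centre. -/
theorem exists_center_mod {G : Type u} [Group G] [Finite G] {s : ℕ} [Fact s.Prime] {S : Subgroup G}
    (hS : IsPGroup s S) (hne : ¬ S ≤ center G) :
    ∃ w ∈ S, w ∉ center G ∧ ∀ g ∈ S, g * w * g⁻¹ * w⁻¹ ∈ center G := by
  set Z := (center G).subgroupOf S with hZ
  haveI : Z.Normal := ⟨fun z hz g => by
    have hz' : (z : G) ∈ center G := hz
    show ((g : G) * z * (g : G)⁻¹) ∈ center G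
    rwa [mem_center_iff.1 hz' g, mul_inv_cancel_right]⟩
  have htop : (⊤ : Subgroup (↥S ⧸ Z)) ≠ ⊥ := by
    intro h
    refine hne fun g hg => ?_
    have : (QuotientGroup.mk ⟨g, hg⟩ : ↥S ⧸ Z) ∈ (⊤ : Subgroup (↥S ⧸ Z)) := mem_top _
    rw [h, mem_bot] at this
    exact (QuotientGroup.eq_one_iff (⟨g, hg⟩ : S)).1 this
  obtain ⟨⟨b, hb⟩, hb1⟩ := Subgroup.ne_bot_iff_exists_ne_one.1
    (CfsgLib.PGroup.inf_center_ne_bot (hS.to_quotient Z) ⊤ htop)
  obtain ⟨w, rfl⟩ := QuotientGroup.mk_surjective b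
  refine ⟨w, w.2, fun h => hb1 (Subtype.ext ((QuotientGroup.eq_one_iff w).2 h)), fun g hg => ?_⟩
  have h : (QuotientGroup.mk (⟨g, hg⟩ * w * (⟨g, hg⟩ : S)⁻¹ * w⁻¹) : ↥S ⧸ Z) = 1 := by
    rw [QuotientGroup.mk_mul, QuotientGroup.mk_mul, QuotientGroup.mk_mul, QuotientGroup.mk_inv,
      QuotientGroup.mk_inv, mem_center_iff.1 (Subgroup.mem_inf.1 hb).2 (QuotientGroup.mk ⟨g, hg⟩)]
    simp
  exact (QuotientGroup.eq_one_iff (N := Z) _).1 h

variable {G : Type u} [Group G] [Finite G] {p m : ℕ}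

theorem Hyp.only_p (D : Hyp G p m) (hT : TwoP G p) {q : ℕ} (hq : q.Prime) (hqp : q ≠ p) : ¬ q ∣ m := by
  intro hqm
  haveI := Fact.mk hq
  haveI := Fact.mk D.hp
  obtain ⟨r, hr, hrq, hrp, hHr⟩ := hT.other q
  haveI := Fact.mk hr
  obtain ⟨v, hv, hvc⟩ := hHr
  have hrv := reg_of_pel D.hp hr hrp hv
  have hHr : Has G r := ⟨v, hv, hvc⟩
  have hrm : ¬ r ∣ m := fun h => hrq (D.prime_unique hT hrv hvc hr hq hrp hqp h hqm)
  obtain ⟨w, hw, hwc⟩ := D.has_of_dvd hrv hvc hq hqm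
  obtain ⟨Q, hQ⟩ := hw.isPGroup.exists_le_sylow
  obtain ⟨x, hxQ, hxc, hxz⟩ := exists_center_mod Q.2 fun h => hwc (h (hQ (mem_zpowers w)))
  have hx : Reg p x := reg_of_pel D.hp hq hqp (IsPEl.of_mem Q.2 hxQ)
  set π := QuotientGroup.mk' (center G) with hπ
  set D' := (centralizer ({π x} : Set (G ⧸ center G))).comap π with hD'
  have hC : Cent x ≤ D' := fun g hg => by
    rw [hD', mem_comap, mem_centralizer_singleton_iff, ← map_mul, ← map_mul, (commute_iff.1 hg).eq]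
  have hQD : (Q : Subgroup G) ≤ D' := fun g hg => by
    rw [hD', mem_comap, mem_centralizer_singleton_iff]
    have h : π (g * x * g⁻¹ * x⁻¹) = 1 := (QuotientGroup.eq_one_iff _).2 (hxz g hg)
    rwa [map_mul, map_mul, map_mul, map_inv, map_inv, mul_inv_eq_one, mul_inv_eq_iff_eq_mul] at h
  have hidx : ∃ a, (centralizer ({π x} : Set (G ⧸ center G))).index = p ^ a := by
    refine ⟨_, Nat.eq_prime_pow_of_unique_prime_dvd index_ne_zero_of_finite fun {s} hs hsd => ?_⟩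
    rw [← index_comap_of_surjective _ (QuotientGroup.mk'_surjective (center G)), ← hπ, ← hD'] at hsd
    by_contra hsp
    have hsm : s ∣ m := D.eq x hx hxc ▸ hsd.trans (index_dvd_of_le hC)
    obtain rfl := D.prime_unique hT hx hxc hs hq hsp hqp hsm hqm
    exact Q.not_dvd_index (hsd.trans (index_dvd_of_le hQD))
  have hsol := CfsgLib.PrimePowerClass.isSolvable_normalClosure D.hp (π x) hidx
  set π₂ := QuotientGroup.mk' (pCore p (G ⧸ center G)) with hπ₂
  set f := π₂.comp π with hfdef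
  have hfs : Function.Surjective f :=
    (QuotientGroup.mk'_surjective _).comp (QuotientGroup.mk'_surjective _)
  have hker : ∀ a : G, Reg p a → f a = 1 → a ∈ center G := by
    intro a ha h
    have h1 : π a ∈ pCore p (G ⧸ center G) := (QuotientGroup.eq_one_iff _).1 h
    obtain ⟨k, hk⟩ := IsPEl.of_mem (CfsgLib.Cores.isPGroup_pCore p) h1
    have h2 : orderOf (π a) = 1 :=
      Nat.eq_one_of_dvd_coprimes (ha.pow_right k) (orderOf_map_dvd π a) (dvd_of_eq hk)
    exact (QuotientGroup.eq_one_iff a).1 (orderOf_eq_one_iff.1 h2)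
  have hO : pCore p ((G ⧸ center G) ⧸ pCore p (G ⧸ center G)) = ⊥ := CfsgLib.Cores.pCore_quotient_self p
  set S0 := (normalClosure ({π x} : Set (G ⧸ center G))).map π₂ with hS0
  haveI hS0n : S0.Normal := Subgroup.Normal.map inferInstance π₂ (QuotientGroup.mk'_surjective _)
  have hS0s : Group.IsSolvable ↥S0 := by
    haveI := hsol
    exact Group.isSolvable_of_surjective (MonoidHom.subgroupMap_surjective π₂ _)
  have hS0ne : S0 ≠ ⊥ := by
    intro h
    have : f x ∈ S0 := ⟨π x, subset_normalClosure rfl, rfl⟩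
    rw [h, mem_bot] at this
    exact hxc (hker x hx this)
  obtain ⟨A, hA⟩ := (Set.toFinite
    {A : Subgroup ((G ⧸ center G) ⧸ pCore p (G ⧸ center G)) | A.Normal ∧ A ≠ ⊥ ∧ A ≤ S0}).exists_minimal
    ⟨S0, hS0n, hS0ne, le_rfl⟩
  obtain ⟨⟨hAn, hAne, hAS⟩, hAmin⟩ := hA
  haveI := hAn
  have hAab : ⁅A, A⁆ = ⊥ := by
    by_contra hne
    have h1 : A ≤ ⁅A, A⁆ := hAmin ⟨commutator_normal A A, hne, (commutator_le_left A A).trans hAS⟩
      (commutator_le_left A A)
    haveI : Group.IsSolvable ↥A := CfsgLib.ThreeTransp.isSolvable_mono hAS hS0s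
    haveI : Nontrivial ↥A := (nontrivial_iff_ne_bot A).2 hAne
    refine (Group.IsSolvable.commutator_lt_top_of_nontrivial ↥A).ne (map_injective A.subtype_injective ?_)
    rw [map_subtype_commutator, ← MonoidHom.range_eq_map, range_subtype]
    exact le_antisymm (commutator_le_left A A) h1
  have hcomm : ∀ a ∈ A, ∀ b ∈ A, Commute a b := fun a ha b hb =>
    commutatorElement_eq_one_iff_commute.1 ((Subgroup.mem_bot).1 (hAab ▸ commutator_mem_commutator ha hb))
  obtain ⟨s, hs, hsA⟩ := Nat.exists_prime_and_dvd (n := Nat.card A) (fun h => hAne (eq_bot_of_card_eq A h))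
  haveI := Fact.mk hs
  let M : Subgroup ((G ⧸ center G) ⧸ pCore p (G ⧸ center G)) :=
    { carrier := {a | a ∈ A ∧ IsPEl s a}
      one_mem' := ⟨one_mem _, isPEl_one⟩
      mul_mem' := fun {a b} ha hb =>
        ⟨mul_mem ha.1 hb.1, IsPEl.mul hs (hcomm a ha.1 b hb.1) ha.2 hb.2⟩
      inv_mem' := fun {a} ha => ⟨inv_mem ha.1, IsPEl.inv ha.2⟩ }
  haveI hMn : M.Normal := ⟨fun a ha g => ⟨hAn.conj_mem a ha.1 g, ha.2.conj g⟩⟩
  have hMp : IsPGroup s ↥M := IsPGroup.iff_orderOf.2 fun a => by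
    obtain ⟨k, hk⟩ := a.2.2
    exact ⟨k, by rw [← orderOf_coe, hk]⟩
  have hMne : M ≠ ⊥ := by
    intro h
    obtain ⟨a, ha⟩ := exists_prime_orderOf_dvd_card' s hsA
    have : (a : (G ⧸ center G) ⧸ pCore p (G ⧸ center G)) ∈ M := ⟨a.2, 1, by rw [orderOf_coe, ha, pow_one]⟩
    rw [h, mem_bot, ← orderOf_eq_one_iff, orderOf_coe, ha] at this
    exact hs.ne_one this
  have hsp : s ≠ p := by
    rintro rfl
    exact hMne (le_bot_iff.1 (hO ▸ CfsgLib.Cores.le_pCore hMp))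
  set M' := M.comap f with hM'
  haveI : M'.Normal := hMn.comap f
  obtain ⟨T⟩ : Nonempty (Sylow s M') := inferInstance
  set S := (T : Subgroup M').map M'.subtype with hS
  have hSp : IsPGroup s S := T.2.map _
  have hSM : S ≤ M' := map_subtype_le _
  have hSc : Nat.card S = s ^ nu s M' := by
    rw [hS, card_map_of_injective M'.subtype_injective, T.card_eq_multiplicity, nu]
  have hlift : ∀ a ∈ M, ∃ b ∈ S, f b = a := by
    intro a ha
    obtain ⟨g, rfl⟩ := hfs a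
    obtain ⟨b, c, hbc, hb, hc, ⟨i, hi⟩, hco⟩ := CfsgLib.Cores.exists_pow_mul_pow s g
    have hc1 : f c = 1 := by
      obtain ⟨j, rfl⟩ := mem_zpowers_iff.1 hc
      obtain ⟨k, hk⟩ := ha.2
      refine orderOf_eq_one_iff.1 (Nat.eq_one_of_dvd_coprimes (hco.pow_right k) (orderOf_map_dvd f _) ?_)
      rw [map_zpow, ← hk]
      exact orderOf_dvd_of_mem_zpowers (zpow_mem (mem_zpowers _) j)
    have hfb : f b = f g := by rw [hbc, map_mul, hc1, mul_one]
    obtain ⟨l, hl, hlb⟩ := exists_conj_mem hSM hSp hSc ⟨i, hi⟩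
      (show b ∈ M' from mem_comap.2 (hfb ▸ ha))
    refine ⟨_, hlb, ?_⟩
    rw [map_mul, map_mul, map_inv, hfb, (hcomm _ (mem_comap.1 hl : f l ∈ M).1 _ ha.1).eq, mul_inv_cancel_right]
  have hfr : normalizer (S : Set G) ⊔ M' = ⊤ := Sylow.normalizer_sup_eq_top T
  have hnorm : ∀ γ, ∃ n ∈ normalizer (S : Set G), f n = γ := by
    intro γ
    obtain ⟨g, rfl⟩ := hfs γ
    obtain ⟨n, hn, l, hl, rfl⟩ := (mem_sup_of_normal_right (s := normalizer (S : Set G)) (t := M')).1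
      (hfr ▸ mem_top g)
    obtain ⟨b, hb, hfb⟩ := hlift (f l) hl
    exact ⟨n * b, mul_mem hn (le_normalizer hb), by rw [map_mul, map_mul, hfb]⟩
  have hSne : ¬ S ≤ center G := by
    intro h
    refine hMne (le_bot_iff.1 fun a ha => ?_)
    obtain ⟨b, hb, rfl⟩ := hlift a ha
    rw [mem_bot, hfdef, MonoidHom.comp_apply, show π b = 1 from (QuotientGroup.eq_one_iff b).2 (h hb), map_one]
  obtain ⟨x1, hx1S, hx1c, hx1z⟩ := exists_center_mod hSp hSne
  have hx1 : Reg p x1 := reg_of_pel D.hp hs hsp (IsPEl.of_mem hSp hx1S)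
  have hSC : S ≤ Cent x1 := by
    intro u hu
    by_contra hucon
    have huN : u ∈ Nor x1 := by
      refine D.mem_nor hT hx1 hx1c hx1 hx1c (commute_iff.2 (Commute.refl x1)) (commute_iff.2 ?_)
      rw [show u * x1 * u⁻¹ = u * x1 * u⁻¹ * x1⁻¹ * x1 by group]
      exact Commute.mul_left (mem_center_iff.1 (hx1z u hu) x1).symm (Commute.refl x1)
    obtain ⟨t, ht, hts, htp, hHt⟩ := hT.other s
    obtain ⟨y, hy, hyt, hyc⟩ := D.exists_pel hx1 hx1c ht htp hHt
    have hyP : y ∈ D.part hT hx1 hx1c ht htp := ⟨hy, hyt⟩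
    have hcP : u * y * u⁻¹ * y⁻¹ ∈ D.part hT hx1 hx1c ht htp :=
      mul_mem (D.conj_mem_part hT hx1 hx1c ht htp huN hyP) (inv_mem hyP)
    have hcM : u * y * u⁻¹ * y⁻¹ ∈ M' := by
      rw [mul_assoc u y, mul_assoc u]
      exact mul_mem (hSM hu) ((‹M'.Normal›).conj_mem _ (inv_mem (hSM hu)) y)
    have hfc : f (u * y * u⁻¹ * y⁻¹) = 1 := by
      obtain ⟨i, hi⟩ := (mem_comap.1 hcM).2
      obtain ⟨j, hj⟩ := hcP.2
      exact orderOf_eq_one_iff.1 (Nat.eq_one_of_dvd_coprimes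
        (Nat.Coprime.pow i j ((Nat.coprime_primes hs ht).2 hts.symm)) (dvd_of_eq hi)
        ((orderOf_map_dvd f _).trans (dvd_of_eq hj)))
    obtain ⟨i, hi⟩ := IsPEl.of_mem hSp hu
    exact hucon (D.semireg_pow hT hx1 hx1c ht htp hyP hyc huN
      (hker _ (reg_of_pel D.hp ht htp hcP.2) hfc) (n := orderOf u)
      (by rw [pow_orderOf_eq_one]; exact one_mem _)
      (hi ▸ ((Nat.coprime_primes hs ht).2 hts.symm).pow_left i))
  obtain ⟨u, hu, huN, huC⟩ := D.exists_out hT hx1 hx1c hq hqp hqm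
  have huc : u ∉ center G := fun h => huC (center_le_centralizer _ h)
  obtain ⟨y1, hy1, hy1r, hy1c⟩ := D.exists_pel (reg_of_pel D.hp hq hqp hu) huc hr hrp hHr
  obtain ⟨n, hn, hfn⟩ := hnorm (f y1)
  obtain ⟨a, b, hab, ha, hb, ⟨i, hi⟩, hco⟩ := CfsgLib.Cores.exists_pow_mul_pow r n
  have hfa : f a = f y1 := by
    obtain ⟨j, rfl⟩ := mem_zpowers_iff.1 hb
    obtain ⟨k, hk⟩ := hy1r
    have h1 : f (n ^ j) = 1 := by
      refine orderOf_eq_one_iff.1 (Nat.eq_one_of_dvd_coprimes (hco.pow_right k) (orderOf_map_dvd f _) ?_)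
      rw [map_zpow, hfn, ← hk]
      exact (orderOf_dvd_of_mem_zpowers (zpow_mem (mem_zpowers _) j)).trans (orderOf_map_dvd f y1)
    rw [← hfn, hab, map_mul, h1, mul_one]
  have haS : a ∈ normalizer (S : Set G) := (zpowers_le.2 hn) ha
  have haN : a ∈ Nor x1 := by
    refine D.mem_nor hT hx1 hx1c hx1 hx1c (commute_iff.2 (Commute.refl x1)) ?_
    exact hSC ((mem_normalizer_iff.1 haS x1).1 hx1S)
  have haC : a ∈ Cent x1 := by
    have h1 : orderOf (QuotientGroup.mk ⟨a, haN⟩ : Fac x1) ∣ r ^ i := by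
      rw [← hi, ← Subgroup.orderOf_mk a haN]
      exact orderOf_map_dvd (QuotientGroup.mk' ((Cent x1).subgroupOf (Nor x1))) _
    have h2 : orderOf (QuotientGroup.mk ⟨a, haN⟩ : Fac x1) ∣ m :=
      (_root_.orderOf_dvd_natCard _).trans (D.card_fac_dvd hT hx1 hx1c)
    have h3 := orderOf_eq_one_iff.1 (Nat.eq_one_of_dvd_coprimes
      ((hr.coprime_iff_not_dvd.2 hrm).pow_left i) h1 h2)
    exact (QuotientGroup.eq_one_iff (⟨a, haN⟩ : ↥(Nor x1))).1 h3
  have hac : a ∉ center G := fun h => hy1c (hker y1 (reg_of_pel D.hp hr hrp hy1r) (by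
    rw [← hfa, hfdef, MonoidHom.comp_apply, show π a = 1 from (QuotientGroup.eq_one_iff a).2 h, map_one]))
  have haP : a ∈ D.part hT hx1 hx1c hr hrp := ⟨haC, i, hi⟩
  have hcP : u * a * u⁻¹ * a⁻¹ ∈ D.part hT hx1 hx1c hr hrp :=
    mul_mem (D.conj_mem_part hT hx1 hx1c hr hrp huN haP) (inv_mem haP)
  have hfc : f (u * a * u⁻¹ * a⁻¹) = 1 := by
    rw [map_mul, map_mul, map_mul, map_inv, map_inv, hfa, ← map_inv, ← map_inv, ← map_mul, ← map_mul,
      ← map_mul, (commute_iff.1 hy1).symm.eq, mul_inv_cancel_right, mul_inv_cancel, map_one]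
  obtain ⟨k, hk⟩ := hu
  exact huC (D.semireg_pow hT hx1 hx1c hr hrp haP hac huN
    (hker _ (reg_of_pel D.hp hr hrp hcP.2) hfc) (n := orderOf u)
    (by rw [pow_orderOf_eq_one]; exact one_mem _)
    (hk ▸ ((Nat.coprime_primes hq hr).2 hrq.symm).pow_left k))

end CfsgLib.PRegTwo
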