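import Cfsg.Agent.Lib.PRegTwo.Normalizer

/-!
Groups whose `p`-regular conjugacy classes have two sizes: the class size has only one prime divisor
besides `p`.
-/

set_option autoImplicit false
set_option linter.style.haveILetI false
set_option linter.unusedSectionVars false

namespace CfsgLib.PRegTwo

open Subgroup CfsgLib.FGS.TwoLargest CfsgLib.ConjVector

universe u

variable {G : Type u} [Group G] [Finite G] {p m : ℕ}

/-- The normalizer of a centralizer modulo the centralizer. -/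
abbrev Fac (x : G) : Type u := ↥(Nor x) ⧸ (Cent x).subgroupOf (Nor x)

variable (D : Hyp G p m) (hT : TwoP G p) {x : G} (hx : Reg p x) (hxc : x ∉ center G)
include D hT hx hxc

theorem Hyp.card_fac_dvd : Nat.card (Fac x) ∣ m := by
  rw [← D.eq x hx hxc, cls]
  exact relIndex_dvd_index_of_le le_normalizer

theorem Hyp.exists_lift {q : ℕ} (hq : q.Prime) {f : Fac x} (hf : ∃ k, orderOf f = q ^ k) :
    ∃ u : ↥(Nor x), IsPEl q (u : G) ∧ (QuotientGroup.mk u : Fac x) = f := by
  haveI := Fact.mk hq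
  obtain ⟨g, rfl⟩ := QuotientGroup.mk_surjective f
  obtain ⟨k, hk⟩ := hf
  obtain ⟨a, b, hab, -, hb, ⟨i, hi⟩, hco⟩ := CfsgLib.Cores.exists_pow_mul_pow q g
  refine ⟨a, ⟨i, by rw [orderOf_coe, hi]⟩, ?_⟩
  set π := QuotientGroup.mk' ((Cent x).subgroupOf (Nor x))
  have hb1 : π b = 1 := by
    obtain ⟨j, rfl⟩ := mem_zpowers_iff.1 hb
    have h1 : orderOf (π (g ^ j)) ∣ q ^ k := by
      rw [map_zpow, ← hk]
      exact orderOf_dvd_of_mem_zpowers (zpow_mem (mem_zpowers _) j)
    have h2 : orderOf (π (g ^ j)) ∣ orderOf (g ^ j) := orderOf_map_dvd π _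
    exact orderOf_eq_one_iff.1 (Nat.eq_one_of_dvd_coprimes (hco.pow_right k) h2 h1)
  show π a = π g
  rw [hab, map_mul, hb1, mul_one]

theorem Hyp.pow_prime {q : ℕ} (hq : q.Prime) (hqp : q ≠ p) {f : Fac x} (hf : ∃ k, orderOf f = q ^ k) :
    f ^ q = 1 := by
  by_cases h1 : f = 1
  · rw [h1, one_pow]
  have hqm : q ∣ m := by
    obtain ⟨k, hk⟩ := hf
    refine dvd_trans ?_ (D.card_fac_dvd hT hx hxc)
    refine dvd_trans ?_ (hk ▸ orderOf_dvd_natCard f)
    exact dvd_pow_self q (fun h => h1 (orderOf_eq_one_iff.1 (by rw [hk, h, pow_zero])))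
  obtain ⟨u, hu, rfl⟩ := D.exists_lift hT hx hxc hq hf
  rw [← QuotientGroup.mk_pow, QuotientGroup.eq_one_iff, mem_subgroupOf, SubmonoidClass.coe_pow]
  exact D.pow_mem hT hx hxc hq hqp (D.has_of_dvd hx hxc hq hqm) hu u.2

/-- No subgroup of the factor of order `q ^ 2` or noncyclic of order a product of two primes. -/
theorem Hyp.no_partition {t : ℕ} (ht : t.Prime) (htp : t ≠ p) (hH : Has G t) (E : Subgroup (Fac x)) {n : ℕ}
    (hco : n.Coprime t)
    (h : ∀ (Y : Type u) [CommGroup Y] (φ : ↥E →* MulAut Y) (Z0 : Subgroup Y),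
      (∀ f : ↥E, f ≠ 1 → ∀ y : Y, φ f y = y → y ∈ Z0) → ∀ y : Y, y ^ n ∈ Z0) : False := by
  set T := D.part hT hx hxc ht htp with hTdef
  letI : CommGroup ↥T :=
    { (inferInstance : Group ↥T) with
      mul_comm := fun a b => Subtype.ext
        (D.commute hT hx hxc (reg_of_pel D.hp ht htp a.2.2) a.2.1 b.2.1).eq }
  let cj : ↥(Nor x) →* MulAut ↥T :=
    { toFun := fun g =>
        { toFun := fun v => ⟨(g : G) * v * (g : G)⁻¹, D.conj_mem_part hT hx hxc ht htp g.2 v.2⟩
          invFun := fun v => ⟨(g : G)⁻¹ * v * (g : G), by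
            have := D.conj_mem_part hT hx hxc ht htp (inv_mem g.2) v.2
            rwa [inv_inv] at this⟩
          left_inv := fun v => by ext; simp [mul_assoc]
          right_inv := fun v => by ext; simp [mul_assoc]
          map_mul' := fun v w => by ext; simp [mul_assoc] }
      map_one' := by ext; simp
      map_mul' := fun g h => by ext; simp [mul_assoc] }
  have hker : (Cent x).subgroupOf (Nor x) ≤ cj.ker := fun g hg => MonoidHom.mem_ker.2 (by
    ext v
    show (g : G) * v * (g : G)⁻¹ = v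
    exact mul_inv_eq_iff_eq_mul.2
      (commute_iff.1 (D.le_cent hT hx hxc (reg_of_pel D.hp ht htp v.2.2) v.2.1 hg)).eq)
  set φ := (QuotientGroup.lift _ cj hker).comp E.subtype
  obtain ⟨y, hy, hyt, hyc⟩ := D.exists_pel hx hxc ht htp hH
  have := h ↥T φ ((center G).subgroupOf T) (fun f hf v hv => by
    by_contra hvc
    obtain ⟨g, hg⟩ := QuotientGroup.mk_surjective (f : Fac x)
    have hv' : (g : G) * v * (g : G)⁻¹ = v := by
      have : (QuotientGroup.lift _ cj hker) (f : Fac x) v = v := hv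
      rw [← hg] at this
      exact congrArg Subtype.val this
    have hgC : (g : G) ∈ Cent x := D.semireg hT hx hxc (reg_of_pel D.hp ht htp v.2.2)
      (fun h => hvc (mem_subgroupOf.2 h)) v.2.1 (mul_inv_eq_iff_eq_mul.1 hv')
    exact hf (Subtype.ext (hg ▸ (QuotientGroup.eq_one_iff g).2 hgC))) ⟨y, hy, hyt⟩
  obtain ⟨k, hk⟩ := hyt
  exact hyc (mem_center_of_coprime_pow (mem_subgroupOf.1 this) (hk ▸ (hco.symm.pow_left k)))

theorem Hyp.factorization_fac_le {q : ℕ} (hq : q.Prime) (hqp : q ≠ p) :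
    (Nat.card (Fac x)).factorization q ≤ 1 := by
  haveI := Fact.mk hq
  by_contra h
  obtain ⟨E, hE⟩ := Sylow.exists_subgroup_card_pow_prime q
    ((hq.pow_dvd_iff_le_factorization Nat.card_pos.ne').2 (show 2 ≤ (Nat.card (Fac x)).factorization q by omega))
  obtain ⟨t, ht, htq, htp, hH⟩ := hT.other q
  haveI : Fintype ↥E := Fintype.ofFinite _
  refine D.no_partition hT hx hxc ht htp hH E ((Nat.coprime_primes hq ht).2 htq.symm) fun Y _ φ Z0 hfix y =>
    Partition.pow_of_sq φ Z0 hfix hq hE (fun f => ?_) y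
  refine Subtype.ext ?_
  rw [SubmonoidClass.coe_pow, OneMemClass.coe_one]
  refine D.pow_prime hT hx hxc hq hqp ?_
  obtain ⟨k, -, hk⟩ := (Nat.dvd_prime_pow hq).1 (hE ▸ orderOf_dvd_natCard f)
  exact ⟨k, by rw [orderOf_coe, hk]⟩

/-- A subgroup of order `q` of the factor is self normalizing. -/
theorem Hyp.normalizer_eq {q : ℕ} (hq : q.Prime) (hqp : q ≠ p) {U : Subgroup (Fac x)} (hU : Nat.card U = q) :
    normalizer (U : Set (Fac x)) = U := by
  haveI := Fact.mk hq
  refine le_antisymm ?_ le_normalizer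
  by_contra hle
  obtain ⟨f, hf⟩ := exists_prime_orderOf_dvd_card' q (dvd_of_eq hU.symm)
  have hfo : orderOf (f : Fac x) = q := by rw [orderOf_coe, hf]
  have hUf : U = zpowers (f : Fac x) :=
    (eq_of_le_of_card_ge (zpowers_le.2 f.2) (by rw [Nat.card_zpowers, hU, hfo])).symm
  obtain ⟨s, hs, hsN, hsq⟩ : ∃ s : ℕ, s.Prime ∧ s ∣ Nat.card (normalizer (U : Set (Fac x))) ∧ s ≠ q := by
    by_contra hcon
    push Not at hcon
    refine hle (eq_of_le_of_card_ge le_normalizer ?_).ge
    set N := normalizer (U : Set (Fac x))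
    have hN0 : Nat.card N ≠ 0 := Nat.card_pos.ne'
    have h1 : (Nat.card N).factorization q ≤ 1 :=
      ((Nat.factorization_le_iff_dvd hN0 Nat.card_pos.ne').2 (card_subgroup_dvd_card N) q).trans
        (D.factorization_fac_le hT hx hxc hq hqp)
    rw [hU, Nat.eq_prime_pow_of_unique_prime_dvd hN0 (fun hd he => hcon _ hd he)]
    calc q ^ (Nat.card N).primeFactorsList.length ≤ q ^ 1 := by
          refine Nat.pow_le_pow_right hq.pos ?_
          have h2 := Nat.eq_prime_pow_of_unique_prime_dvd hN0 (fun hd he => hcon _ hd he)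
          rw [h2, Nat.Prime.factorization_pow hq, Finsupp.single_eq_same] at h1
          exact h1
      _ = q := pow_one q
  haveI := Fact.mk hs
  obtain ⟨g, hg⟩ := exists_prime_orderOf_dvd_card' s hsN
  have hgo : orderOf (g : Fac x) = s := by rw [orderOf_coe, hg]
  obtain ⟨u, hu, huf⟩ := D.exists_lift hT hx hxc hq ⟨1, by rw [hfo, pow_one]⟩
  obtain ⟨v, hv⟩ := QuotientGroup.mk_surjective (g : Fac x)
  have hqm : q ∣ m := (hU ▸ card_subgroup_dvd_card U).trans (D.card_fac_dvd hT hx hxc)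
  have huC : (u : G) ∉ Cent x := fun h => hq.ne_one (by
    rw [← hfo, ← huf, (QuotientGroup.eq_one_iff u).2 h, orderOf_one])
  by_cases hcomm : (f : Fac x) * g = g * f
  · refine hs.ne_one ?_
    rw [← hgo, ← hv, (QuotientGroup.eq_one_iff v).2 ?_, orderOf_one]
    refine D.no_commute hT hx hxc hq hqp (D.has_of_dvd hx hxc hq hqm) hu u.2 huC v.2 (n := s) ?_
      ((Nat.coprime_primes hs hq).2 hsq) ?_
    · have : v ^ s ∈ (Cent x).subgroupOf (Nor x) := by
        rw [← QuotientGroup.eq_one_iff, QuotientGroup.mk_pow, hv, ← hgo, pow_orderOf_eq_one]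
      exact this
    · have : u * v * u⁻¹ * v⁻¹ ∈ (Cent x).subgroupOf (Nor x) := by
        rw [← QuotientGroup.eq_one_iff, QuotientGroup.mk_mul, QuotientGroup.mk_mul, QuotientGroup.mk_mul,
          QuotientGroup.mk_inv, QuotientGroup.mk_inv, huf, hv, hcomm]
        simp
      exact this
  · set S := zpowers (g : Fac x) with hSdef
    have hnorm : S ≤ normalizer (U : Set (Fac x)) := zpowers_le.2 g.2
    set E := S ⊔ U with hEdef
    have hsurj : Function.Surjective fun a : ↥S × ↥U => (⟨(a.1 : Fac x) * a.2,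
        mul_mem (mem_sup_left a.1.2) (mem_sup_right a.2.2)⟩ : ↥E) := by
      rintro ⟨e, he⟩
      have he' : e ∈ ((S ⊔ U : Subgroup (Fac x)) : Set (Fac x)) := he
      rw [coe_mul_of_left_le_normalizer_right S U hnorm] at he'
      obtain ⟨a, ha, b, hb, rfl⟩ := he'
      exact ⟨(⟨a, ha⟩, ⟨b, hb⟩), rfl⟩
    have hle' := Nat.card_le_card_of_surjective _ hsurj
    have hS : Nat.card ↥S = s := by rw [hSdef, Nat.card_zpowers, hgo]
    rw [Nat.card_prod, hS, hU] at hle'
    have hdvd : s * q ∣ Nat.card ↥E := ((Nat.coprime_primes hs hq).2 hsq).mul_dvd_of_dvd_of_dvd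
      (hS ▸ card_dvd_of_le le_sup_left) (hU ▸ card_dvd_of_le le_sup_right)
    have hE : Nat.card ↥E = s * q := le_antisymm hle' (Nat.le_of_dvd Nat.card_pos hdvd)
    have hno : ∀ e : ↥E, orderOf e ≠ s * q := by
      intro e he
      refine hcomm ?_
      have htop : zpowers (e : Fac x) = E :=
        eq_of_le_of_card_ge (zpowers_le.2 e.2) (by rw [Nat.card_zpowers, orderOf_coe, he, hE])
      obtain ⟨i, hi⟩ := mem_zpowers_iff.1 (htop.ge (mem_sup_right f.2))
      obtain ⟨j, hj⟩ := mem_zpowers_iff.1 (htop.ge (mem_sup_left (mem_zpowers (g : Fac x))))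
      rw [← hi, ← hj]
      exact ((Commute.refl (e : Fac x)).zpow_zpow i j).eq
    haveI : Fintype ↥E := Fintype.ofFinite _
    rcases lt_or_gt_of_ne hsq with hlt | hlt
    · obtain ⟨t, ht, htb, htp, hH⟩ := hT.other q
      exact D.no_partition hT hx hxc ht htp hH E ((Nat.coprime_primes hq ht).2 htb.symm) fun Y _ φ Z0 hfix y =>
        Partition.pow_of_mul φ Z0 hfix hs hq hlt hE hno y
    · obtain ⟨t, ht, htb, htp, hH⟩ := hT.other s
      exact D.no_partition hT hx hxc ht htp hH E ((Nat.coprime_primes hs ht).2 htb.symm) fun Y _ φ Z0 hfix y =>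
        Partition.pow_of_mul φ Z0 hfix hq hs hlt (hE.trans (mul_comm s q)) (fun e => mul_comm s q ▸ hno e) y

/-- The class size has only one prime divisor besides `p`. -/
theorem Hyp.prime_unique {q r : ℕ} (hq : q.Prime) (hr : r.Prime) (hqp : q ≠ p) (hrp : r ≠ p) (hqm : q ∣ m)
    (hrm : r ∣ m) : q = r := by
  by_contra hqr
  haveI := Fact.mk hq
  haveI := Fact.mk hr
  have hdvd : ∀ {s : ℕ}, s.Prime → s ≠ p → s ∣ m → s ∣ Nat.card (Fac x) := by
    intro s hs hsp hsm
    obtain ⟨u, ⟨k, hk⟩, huN, huC⟩ := D.exists_out hT hx hxc hs hsp hsm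
    have hne : (QuotientGroup.mk ⟨u, huN⟩ : Fac x) ≠ 1 := fun h =>
      huC ((QuotientGroup.eq_one_iff (⟨u, huN⟩ : ↥(Nor x))).1 h)
    have h1 : orderOf (QuotientGroup.mk ⟨u, huN⟩ : Fac x) ∣ s ^ k := by
      rw [← hk, ← Subgroup.orderOf_mk u huN]
      exact orderOf_map_dvd (QuotientGroup.mk' ((Cent x).subgroupOf (Nor x))) _
    obtain ⟨j, -, hj⟩ := (Nat.dvd_prime_pow hs).1 h1
    refine dvd_trans ?_ (hj ▸ orderOf_dvd_natCard (QuotientGroup.mk ⟨u, huN⟩ : Fac x))
    exact dvd_pow_self s (fun h => hne (orderOf_eq_one_iff.1 (by rw [hj, h, pow_zero])))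
  obtain ⟨P⟩ : Nonempty (Sylow q (Fac x)) := inferInstance
  have hPc : Nat.card (P : Subgroup (Fac x)) = q := by
    rw [P.card_eq_multiplicity, show (Nat.card (Fac x)).factorization q = 1 from
      le_antisymm (D.factorization_fac_le hT hx hxc hq hqp)
        (hq.factorization_pos_of_dvd Nat.card_pos.ne' (hdvd hq hqp hqm)), pow_one]
  have hP : normalizer ((P : Subgroup (Fac x)) : Set (Fac x)) ≤
      centralizer ((P : Subgroup (Fac x)) : Set (Fac x)) := by
    rw [D.normalizer_eq hT hx hxc hq hqp hPc]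
    haveI : IsCyclic ↥(P : Subgroup (Fac x)) := isCyclic_of_prime_card hPc
    intro a ha
    exact mem_centralizer_iff.2 fun b hb => congrArg Subtype.val
      (IsCyclic.commGroup (α := ↥(P : Subgroup (Fac x))) |>.mul_comm ⟨b, hb⟩ ⟨a, ha⟩)
  set K := (MonoidHom.transferSylow P hP).ker
  have hK : K.IsComplement' (P : Subgroup (Fac x)) := MonoidHom.ker_transferSylow_isComplement' P hP
  have hKc : Nat.card K * q = Nat.card (Fac x) := hPc ▸ hK.card_mul
  have hrK : r ∣ Nat.card K := ((Nat.coprime_primes hr hq).2 (Ne.symm hqr)).dvd_of_dvd_mul_right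
    (hKc.symm ▸ hdvd hr hrp hrm)
  obtain ⟨R⟩ : Nonempty (Sylow r K) := inferInstance
  set R' := (R : Subgroup K).map K.subtype with hR'
  have hRc : Nat.card R' = r := by
    rw [hR', card_map_of_injective K.subtype_injective, R.card_eq_multiplicity,
      show (Nat.card K).factorization r = 1 from le_antisymm
        (((Nat.factorization_le_iff_dvd Nat.card_pos.ne' Nat.card_pos.ne').2 (card_subgroup_dvd_card K) r).trans
          (D.factorization_fac_le hT hx hxc hr hrp))
        (hr.factorization_pos_of_dvd Nat.card_pos.ne' hrK), pow_one]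
  have hfr : normalizer (R' : Set (Fac x)) ⊔ K = ⊤ := Sylow.normalizer_sup_eq_top R
  rw [D.normalizer_eq hT hx hxc hr hrp hRc, sup_eq_right.2 (map_subtype_le _)] at hfr
  rw [hfr, card_top] at hKc
  exact hq.ne_one ((Nat.mul_eq_left Nat.card_pos.ne').1 hKc)

end CfsgLib.PRegTwo
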