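import Mathlib

/-!
A group all whose nonidentity elements have prime order, acting on a commutative group with fixed points
in a given subgroup: the partition into cyclic subgroups bounds the exponent modulo that subgroup.
-/

set_option autoImplicit false
set_option linter.style.haveILetI false
set_option linter.unusedSectionVars false

namespace CfsgLib.PRegTwo.Partition

open Subgroup Finset

open scoped Classical

variable {E Y : Type*} [Group E] [Fintype E] [CommGroup Y]

/-- The cyclic subgroups other than the trivial one. -/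
noncomputable def cyc (E : Type*) [Group E] [Fintype E] : Finset (Subgroup E) :=
  (Finset.univ.erase (1 : E)).image zpowers

theorem zpowers_eq_of_mem (hpr : ∀ f : E, f ≠ 1 → (orderOf f).Prime) {f g : E} (hf : f ≠ 1) (hg : g ≠ 1)
    (h : f ∈ zpowers g) : zpowers f = zpowers g := by
  refine eq_of_le_of_card_ge (zpowers_le.2 h) (le_of_eq ?_)
  rw [Nat.card_zpowers, Nat.card_zpowers]
  exact (((Nat.prime_dvd_prime_iff_eq (hpr f hf) (hpr g hg)).1 (orderOf_dvd_of_mem_zpowers h))).symm

theorem fiber (hpr : ∀ f : E, f ≠ 1 → (orderOf f).Prime) {C : Subgroup E} (hC : C ∈ cyc E) :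
    (Finset.univ.erase (1 : E)).filter (fun f => zpowers f = C) =
      (Finset.univ.filter fun f => f ∈ C).erase 1 := by
  obtain ⟨g, hg, rfl⟩ := Finset.mem_image.1 hC
  rw [Finset.mem_erase] at hg
  ext f
  simp only [Finset.mem_filter, Finset.mem_erase, Finset.mem_univ, and_true, true_and]
  exact ⟨fun h => ⟨h.1, h.2 ▸ mem_zpowers f⟩, fun h => ⟨h.1, zpowers_eq_of_mem hpr h.1 hg.1 h.2⟩⟩

theorem prod_fixed (φ : E →* MulAut Y) (C : Subgroup E) (y : Y) {c : E} (hc : c ∈ C) :
    φ c (∏ f ∈ Finset.univ.filter (fun f => f ∈ C), φ f y) =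
      ∏ f ∈ Finset.univ.filter (fun f => f ∈ C), φ f y := by
  rw [map_prod]
  refine Finset.prod_nbij (fun f => c * f) (fun f hf => ?_) (fun f _ g _ h => mul_left_cancel h)
    (fun g hg => ⟨c⁻¹ * g, ?_, mul_inv_cancel_left c g⟩) (fun f _ => ?_)
  · simp only [Finset.mem_filter, Finset.mem_univ, true_and] at hf ⊢
    exact mul_mem hc hf
  · simp only [Finset.coe_filter, Finset.mem_univ, true_and, Set.mem_setOf_eq] at hg ⊢
    exact mul_mem (inv_mem hc) hg
  · rw [map_mul, MulAut.mul_apply]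

/-- The power of an element given by the number of cyclic subgroups. -/
theorem pow_mul_inv_mem [Nontrivial E] (φ : E →* MulAut Y) (Z0 : Subgroup Y)
    (hfix : ∀ f : E, f ≠ 1 → ∀ y : Y, φ f y = y → y ∈ Z0)
    (hpr : ∀ f : E, f ≠ 1 → (orderOf f).Prime) (y : Y) : y ^ (cyc E).card * y⁻¹ ∈ Z0 := by
  have hC : ∀ C ∈ cyc E, y * ∏ f ∈ (Finset.univ.filter fun f => f ∈ C).erase (1 : E), φ f y ∈ Z0 := by
    intro C hC
    obtain ⟨g, hg, rfl⟩ := Finset.mem_image.1 hC
    rw [Finset.mem_erase] at hg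
    have h1 : φ (1 : E) y = y := by rw [map_one, MulAut.one_apply]
    have := Finset.mul_prod_erase (Finset.univ.filter fun f => f ∈ zpowers g) (fun f => φ f y)
      (a := (1 : E)) (by simp [one_mem])
    rw [h1] at this
    rw [this]
    exact hfix g hg.1 _ (prod_fixed φ _ y (mem_zpowers g))
  have h2 : y * ∏ f ∈ Finset.univ.erase (1 : E), φ f y ∈ Z0 := by
    obtain ⟨g, hg⟩ := exists_ne (1 : E)
    have h1 : φ (1 : E) y = y := by rw [map_one, MulAut.one_apply]
    have := Finset.mul_prod_erase Finset.univ (fun f => φ f y) (Finset.mem_univ (1 : E))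
    rw [h1] at this
    rw [this]
    refine hfix g hg _ ?_
    simpa using prod_fixed φ ⊤ y (Subgroup.mem_top g)
  have h3 : y ^ (cyc E).card * ∏ f ∈ Finset.univ.erase (1 : E), φ f y ∈ Z0 := by
    rw [← Finset.prod_fiberwise_of_maps_to (s := Finset.univ.erase (1 : E)) (t := cyc E) (g := zpowers)
      (fun f hf => Finset.mem_image_of_mem _ hf) (fun f => φ f y), ← Finset.prod_const,
      ← Finset.prod_mul_distrib]
    refine Subgroup.prod_mem _ fun C hC' => ?_
    rw [fiber hpr hC']
    exact hC C hC'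
  have := mul_mem h3 (inv_mem h2)
  rwa [mul_inv, mul_comm y⁻¹, mul_assoc, mul_inv_cancel_left] at this

theorem sum_fiber (hpr : ∀ f : E, f ≠ 1 → (orderOf f).Prime) :
    ∑ C ∈ cyc E, (Nat.card C - 1) = Nat.card E - 1 := by
  have h : ∀ C ∈ cyc E, Nat.card C - 1 =
      ((Finset.univ.erase (1 : E)).filter (fun f => zpowers f = C)).card := by
    intro C hC
    rw [fiber hpr hC, Finset.card_erase_of_mem (by simp [one_mem]), Nat.card_eq_fintype_card,
      Fintype.card_of_subtype (Finset.univ.filter fun f => f ∈ C) (by simp)]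
  rw [Finset.sum_congr rfl h, ← Finset.card_eq_sum_card_fiberwise (s := Finset.univ.erase (1 : E)) (f := zpowers) (t := cyc E)
    (fun f hf => Finset.mem_image_of_mem _ hf), Finset.card_erase_of_mem (Finset.mem_univ _),
    Finset.card_univ, Nat.card_eq_fintype_card]

theorem card_of_mem_cyc {C : Subgroup E} (hC : C ∈ cyc E) : ∃ g : E, g ≠ 1 ∧ Nat.card C = orderOf g ∧ g ∈ C := by
  obtain ⟨g, hg, rfl⟩ := Finset.mem_image.1 hC
  exact ⟨g, (Finset.mem_erase.1 hg).1, Nat.card_zpowers g, mem_zpowers g⟩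

/-- Groups of order `q ^ 2` and exponent `q`. -/
theorem pow_of_sq (φ : E →* MulAut Y) (Z0 : Subgroup Y)
    (hfix : ∀ f : E, f ≠ 1 → ∀ y : Y, φ f y = y → y ∈ Z0) {q : ℕ} (hq : q.Prime)
    (hcard : Nat.card E = q ^ 2) (hexp : ∀ f : E, f ^ q = 1) (y : Y) : y ^ q ∈ Z0 := by
  haveI := Fact.mk hq
  have ho : ∀ f : E, f ≠ 1 → orderOf f = q := fun f hf => orderOf_eq_prime (hexp f) hf
  have hpr : ∀ f : E, f ≠ 1 → (orderOf f).Prime := fun f hf => (ho f hf).symm ▸ hq
  haveI : Nontrivial E := by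
    rw [← Fintype.one_lt_card_iff_nontrivial, ← Nat.card_eq_fintype_card, hcard]
    exact Nat.one_lt_pow two_ne_zero hq.one_lt
  have h := sum_fiber (E := E) hpr
  rw [Finset.sum_congr rfl (g := fun _ => q - 1) (fun C hC => by
    obtain ⟨g, hg, hgc, -⟩ := card_of_mem_cyc hC
    rw [hgc, ho g hg]), Finset.sum_const, smul_eq_mul, hcard] at h
  have hk : (cyc E).card = q + 1 := by
    refine Nat.eq_of_mul_eq_mul_right (Nat.sub_pos_of_lt hq.one_lt) (h.trans ?_)
    rw [show q ^ 2 - 1 = q ^ 2 - 1 ^ 2 by rw [one_pow], Nat.sq_sub_sq]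
  have := pow_mul_inv_mem φ Z0 hfix hpr y
  rwa [hk, pow_succ, mul_inv_cancel_right] at this

/-- Noncyclic groups of order a product of two primes. -/
theorem pow_of_mul (φ : E →* MulAut Y) (Z0 : Subgroup Y)
    (hfix : ∀ f : E, f ≠ 1 → ∀ y : Y, φ f y = y → y ∈ Z0) {a b : ℕ} (ha : a.Prime) (hb : b.Prime)
    (hab : a < b) (hcard : Nat.card E = a * b) (hno : ∀ f : E, orderOf f ≠ a * b) (y : Y) : y ^ b ∈ Z0 := by
  have ho : ∀ f : E, f ≠ 1 → orderOf f = a ∨ orderOf f = b := by
    intro f hf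
    obtain ⟨d₁, d₂, h1, h2, hd⟩ := exists_dvd_and_dvd_of_dvd_mul (hcard ▸ orderOf_dvd_natCard f)
    rcases (Nat.dvd_prime ha).1 h1 with rfl | rfl <;> rcases (Nat.dvd_prime hb).1 h2 with rfl | rfl
    · exact absurd (orderOf_eq_one_iff.1 (by simpa using hd)) hf
    · exact Or.inr (by simpa using hd)
    · exact Or.inl (by simpa using hd)
    · exact absurd hd (hno f)
  have hpr : ∀ f : E, f ≠ 1 → (orderOf f).Prime := fun f hf => by
    rcases ho f hf with h | h <;> rw [h] <;> assumption
  haveI : Nontrivial E := by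
    rw [← Fintype.one_lt_card_iff_nontrivial, ← Nat.card_eq_fintype_card, hcard]
    exact ha.one_lt.trans_le (Nat.le_mul_of_pos_right a hb.pos)
  have huniq : ∀ C ∈ cyc E, ∀ C' ∈ cyc E, Nat.card C = b → Nat.card C' = b → C = C' := by
    intro C _ C' _ h h'
    by_contra hne
    haveI := Fact.mk hb
    have hbot : C ⊓ C' = ⊥ := by
      rcases (Nat.dvd_prime hb).1 (h ▸ Subgroup.card_dvd_of_le (inf_le_left : C ⊓ C' ≤ C)) with e | e
      · exact Subgroup.eq_bot_of_card_eq _ e
      · exact absurd ((eq_of_le_of_card_ge inf_le_left (le_of_eq (h.trans e.symm))).symm.trans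
          (eq_of_le_of_card_ge inf_le_right (le_of_eq (h'.trans e.symm)))) hne
    have hinj : Function.Injective fun x : C × C' => (x.1 : E) * x.2 := by
      rintro ⟨x, x'⟩ ⟨z, z'⟩ he
      have he' : (x : E) * x' = z * z' := he
      have h1 : (z : E)⁻¹ * x ∈ C ⊓ C' := by
        refine Subgroup.mem_inf.2 ⟨mul_mem (inv_mem z.2) x.2, ?_⟩
        rw [show (z : E)⁻¹ * x = z' * (x' : E)⁻¹ by
          rw [eq_mul_inv_iff_mul_eq, mul_assoc, he', inv_mul_cancel_left]]
        exact mul_mem z'.2 (inv_mem x'.2)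
      rw [hbot, Subgroup.mem_bot, inv_mul_eq_one] at h1
      rw [← h1] at he'
      exact Prod.ext (Subtype.ext h1.symm) (Subtype.ext (mul_left_cancel he'))
    have := Nat.card_le_card_of_injective _ hinj
    rw [Nat.card_prod, h, h', hcard] at this
    exact absurd (Nat.le_of_mul_le_mul_right this hb.pos) (not_le.2 hab)
  obtain ⟨g, hg⟩ : ∃ g : E, orderOf g = b := by
    haveI := Fact.mk hb
    exact exists_prime_orderOf_dvd_card' b (hcard ▸ dvd_mul_left b a)
  have hg1 : g ≠ 1 := fun h => hb.ne_one (by rw [← hg, h, orderOf_one])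
  have hB : zpowers g ∈ cyc E := Finset.mem_image_of_mem _ (by simp [hg1])
  have hBc : Nat.card (zpowers g) = b := by rw [Nat.card_zpowers, hg]
  have h := sum_fiber (E := E) hpr
  rw [← Finset.add_sum_erase _ _ hB, hBc,
    Finset.sum_congr rfl (g := fun _ => a - 1) (fun C hC => by
      obtain ⟨hne, hC'⟩ := Finset.mem_erase.1 hC
      obtain ⟨f, hf, hfc, -⟩ := card_of_mem_cyc hC'
      rcases ho f hf with e | e
      · rw [hfc, e]
      · exact absurd (huniq C hC' _ hB (hfc.trans e) hBc) hne),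
    Finset.sum_const, smul_eq_mul, hcard, Finset.card_erase_of_mem hB] at h
  have hk : (cyc E).card - 1 = b := by
    have h1 : ((cyc E).card - 1) * (a - 1) = b * (a - 1) := by
      have h2 : a * b = b * (a - 1) + b := by
        rw [← Nat.mul_succ, Nat.succ_eq_add_one, Nat.sub_add_cancel ha.one_le, mul_comm]
      have := hb.one_le
      omega
    exact Nat.eq_of_mul_eq_mul_right (Nat.sub_pos_of_lt ha.one_lt) h1
  have hk' : (cyc E).card = b + 1 := by
    have := Finset.card_pos.2 ⟨_, hB⟩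
    omega
  have := pow_mul_inv_mem φ Z0 hfix hpr y
  rwa [hk', pow_succ, mul_inv_cancel_right] at this

end CfsgLib.PRegTwo.Partition
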