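import Cfsg.Agent.Lib.PRegTwo.Basic
import Cfsg.Agent.Lib.PRegTwo.Partition
import Cfsg.Agent.Lib.PGroup.Basic

/-!
Groups whose `p`-regular conjugacy classes have two sizes: the factor of the normalizer of a centralizer
by that centralizer, and the class size has only one prime divisor besides `p`.
-/

set_option autoImplicit false
set_option linter.style.haveILetI false
set_option linter.unusedSectionVars false

namespace CfsgLib.PRegTwo

open Subgroup CfsgLib.FGS.TwoLargest CfsgLib.ConjVector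

variable {G : Type*} [Group G] [Finite G] {p m : ℕ}

theorem mem_center_of_coprime_pow {y : G} {n : ℕ} (hn : y ^ n ∈ center G) (hco : (orderOf y).Coprime n) :
    y ∈ center G := by
  obtain ⟨k, hk⟩ := exists_pow_eq_self_of_coprime (n := n) hco.symm
  exact hk ▸ pow_mem hn k

variable (D : Hyp G p m) (hT : TwoP G p) {x : G} (hx : Reg p x) (hxc : x ∉ center G)
include D hT hx hxc

theorem Hyp.exists_out {q : ℕ} (hq : q.Prime) (hqp : q ≠ p) (hqm : q ∣ m) :
    ∃ u : G, IsPEl q u ∧ u ∈ Nor x ∧ u ∉ Cent x := by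
  haveI := Fact.mk hq
  set T := D.part hT hx hxc hq hqp with hTdef
  have hTc : Nat.card T = q ^ nu q (Cent x) := D.card_part hT hx hxc hqp
  have hdvd : q ^ (nu q (Cent x) + 1) ∣ Nat.card G := by
    refine (hq.pow_dvd_iff_le_factorization Nat.card_pos.ne').2 ?_
    have h1 := nu_cent_add q x
    rw [D.eq x hx hxc] at h1
    have : 1 ≤ m.factorization q := hq.factorization_pos_of_dvd (D.eq x hx hxc ▸ cls_ne_zero x) hqm
    omega
  haveI : (T.subgroupOf (normalizer (T : Set G))).Normal := normal_in_normalizer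
  obtain ⟨w, hw⟩ := exists_prime_orderOf_dvd_card'
    (G := ↥(normalizer (T : Set G)) ⧸ T.subgroupOf (normalizer (T : Set G))) q
    (Sylow.prime_dvd_card_quotient_normalizer hdvd hTc)
  obtain ⟨u, rfl⟩ := QuotientGroup.mk_surjective w
  have huT : (u : G) ∉ T := by
    intro h
    rw [show (QuotientGroup.mk u : _ ⧸ T.subgroupOf (normalizer (T : Set G))) = 1 from
      (QuotientGroup.eq_one_iff u).2 h, orderOf_one] at hw
    exact hq.one_lt.ne hw
  have huq : (u : G) ^ q ∈ T := by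
    have : u ^ q ∈ T.subgroupOf (normalizer (T : Set G)) := by
      rw [← QuotientGroup.eq_one_iff, QuotientGroup.mk_pow, ← hw, pow_orderOf_eq_one]
    exact this
  have hpel : IsPEl q (u : G) := by
    obtain ⟨k, hk⟩ := IsPEl.of_mem (D.isPGroup_part hT hx hxc hqp) huq
    have h : (u : G) ^ (q * q ^ k) = 1 := by rw [pow_mul, ← hk, pow_orderOf_eq_one]
    rw [← pow_succ'] at h
    obtain ⟨j, -, hj⟩ := (Nat.dvd_prime_pow hq).1 (orderOf_dvd_of_pow_eq_one h)
    exact ⟨j, hj⟩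
  obtain ⟨y, hy, hyq, hyc⟩ := D.exists_pel hx hxc hq hqp (D.has_of_dvd hx hxc hq hqm)
  refine ⟨u, hpel, ?_, fun h => huT ⟨h, hpel⟩⟩
  exact D.mem_nor hT hx hxc (reg_of_pel D.hp hq hqp hyq) hyc hy ((mem_normalizer_iff.1 u.2 y).1 ⟨hy, hyq⟩).1

theorem Hyp.fixed {q : ℕ} (hq : q.Prime) (hqp : q ≠ p) (hH : Has G q) {u : G} (hu : IsPEl q u)
    (huN : u ∈ Nor x) : ∃ w ∈ D.part hT hx hxc hq hqp, w ∉ center G ∧ w ^ q ∈ center G ∧
      u * w * u⁻¹ * w⁻¹ ∈ center G := by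
  haveI := Fact.mk hq
  set T := D.part hT hx hxc hq hqp with hTdef
  have hnorm : zpowers u ≤ normalizer (T : Set G) := by
    refine zpowers_le.2 (mem_normalizer_iff.2 fun v => ⟨fun hv => D.conj_mem_part hT hx hxc hq hqp huN hv,
      fun hv => ?_⟩)
    have := D.conj_mem_part hT hx hxc hq hqp (inv_mem huN) hv
    rwa [inv_inv, show u⁻¹ * (u * v * u⁻¹) * u = v by group] at this
  set R := zpowers u ⊔ T with hRdef
  have hR : IsPGroup q ↥R := hu.isPGroup.to_sup_of_normal_right' (D.isPGroup_part hT hx hxc hqp) hnorm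
  haveI : (T.subgroupOf R).Normal :=
    (normal_subgroupOf_iff_le_normalizer le_sup_right).2 (sup_le hnorm le_normalizer)
  set Z := (center G).subgroupOf R with hZdef
  haveI : Z.Normal := ⟨fun z hz g => by
    have hz' : (z : G) ∈ center G := hz
    show ((g : G) * z * (g : G)⁻¹) ∈ center G
    rwa [mem_center_iff.1 hz' g, mul_inv_cancel_right]⟩
  set φ := QuotientGroup.mk' Z with hφ
  haveI : ((T.subgroupOf R).map φ).Normal := Subgroup.Normal.map inferInstance φ (QuotientGroup.mk'_surjective Z)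
  obtain ⟨y, hy, hyq, hyc⟩ := D.exists_pel hx hxc hq hqp hH
  have hne : (T.subgroupOf R).map φ ≠ ⊥ := by
    intro h
    have hyT : y ∈ T := ⟨hy, hyq⟩
    have : φ ⟨y, mem_sup_right hyT⟩ ∈ (T.subgroupOf R).map φ := ⟨⟨y, mem_sup_right hyT⟩, hyT, rfl⟩
    rw [h, mem_bot] at this
    exact hyc ((QuotientGroup.eq_one_iff (⟨y, mem_sup_right hyT⟩ : R)).1 this)
  obtain ⟨⟨b, hb⟩, hb1'⟩ := Subgroup.ne_bot_iff_exists_ne_one.1
    (CfsgLib.PGroup.inf_center_ne_bot (hR.to_quotient Z) _ hne)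
  have hb1 : b ≠ 1 := fun h => hb1' (Subtype.ext h)
  clear hb1'
  obtain ⟨⟨w, hwT, rfl⟩, hbc⟩ := Subgroup.mem_inf.1 hb
  have hwc : (w : G) ∉ center G := fun h => hb1 ((QuotientGroup.eq_one_iff w).2 h)
  have hwz : u * (w : G) * u⁻¹ * (w : G)⁻¹ ∈ center G := by
    have h : φ (⟨u, mem_sup_left (mem_zpowers u)⟩ * w * (⟨u, mem_sup_left (mem_zpowers u)⟩ : R)⁻¹ * w⁻¹) = 1 := by
      simp only [map_mul, map_inv]
      rw [mem_center_iff.1 hbc (φ ⟨u, mem_sup_left (mem_zpowers u)⟩)]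
      simp
    exact (QuotientGroup.eq_one_iff (N := Z) _).1 h
  obtain ⟨k, hk⟩ : ∃ k, (w : G) ^ q ^ k ∈ center G := by
    obtain ⟨k, hk⟩ := (hwT : (w : G) ∈ T).2
    exact ⟨k, by rw [orderOf_dvd_iff_pow_eq_one.1 (dvd_of_eq (show orderOf (w : G) = q ^ k from hk))]; exact one_mem _⟩
  induction k generalizing w with
  | zero => exact absurd (by simpa using hk) hwc
  | succ k ih =>
    by_cases hc : (w : G) ^ q ^ k ∈ center G
    · exact ih w hwT hb hb1 hbc hwc hwz hc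
    · refine ⟨(w : G) ^ q ^ k, pow_mem (hwT : (w : G) ∈ T) _, hc, ?_, ?_⟩
      · rw [← pow_mul, ← pow_succ]; exact hk
      · set z := u * (w : G) * u⁻¹ * (w : G)⁻¹ with hz
        have hzw : u * (w : G) * u⁻¹ = z * w := by rw [hz]; group
        have : u * (w : G) ^ q ^ k * u⁻¹ = z ^ q ^ k * (w : G) ^ q ^ k := by
          rw [← conj_pow, hzw, Commute.mul_pow (mem_center_iff.1 hwz (w : G)).symm]
        rw [this, mul_inv_cancel_right]
        exact pow_mem hwz _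

theorem Hyp.pow_mem {q : ℕ} (hq : q.Prime) (hqp : q ≠ p) (hH : Has G q) {u : G} (hu : IsPEl q u)
    (huN : u ∈ Nor x) : u ^ q ∈ Cent x := by
  obtain ⟨w, hw, hwc, hwq, hz⟩ := D.fixed hT hx hxc hq hqp hH hu huN
  set z := u * w * u⁻¹ * w⁻¹ with hzdef
  have hzw : u * w * u⁻¹ = z * w := by rw [hzdef]; group
  have hzq : z ^ q = 1 := by
    have h : u * w ^ q * u⁻¹ = z ^ q * w ^ q := by
      rw [← conj_pow, hzw, Commute.mul_pow (mem_center_iff.1 hz w).symm]
    rw [mem_center_iff.1 hwq u, mul_inv_cancel_right] at h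
    exact mul_eq_right.1 h.symm
  refine D.semireg hT hx hxc (reg_of_pel D.hp hq hqp hw.2) hwc hw.1 ?_
  have := conj_pow_of_central hz hzw q
  rw [hzq, one_mul] at this
  exact mul_inv_eq_iff_eq_mul.1 this

theorem Hyp.no_commute {q : ℕ} (hq : q.Prime) (hqp : q ≠ p) (hH : Has G q) {u : G} (hu : IsPEl q u)
    (huN : u ∈ Nor x) (huC : u ∉ Cent x) {v : G} (hv : v ∈ Nor x) {n : ℕ} (hn : v ^ n ∈ Cent x)
    (hco : n.Coprime q) (hcomm : u * v * u⁻¹ * v⁻¹ ∈ Cent x) : v ∈ Cent x := by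
  obtain ⟨w, hw, hwc, -, hz⟩ := D.fixed hT hx hxc hq hqp hH hu huN
  set z := u * w * u⁻¹ * w⁻¹ with hzdef
  have hzw : u * w * u⁻¹ = z * w := by rw [hzdef]; group
  set c := u * v * u⁻¹ * v⁻¹ with hcdef
  have hvw : v * w * v⁻¹ ∈ D.part hT hx hxc hq hqp := D.conj_mem_part hT hx hxc hq hqp hv hw
  have haT : v * w * v⁻¹ * w⁻¹ ∈ D.part hT hx hxc hq hqp := mul_mem hvw (inv_mem hw)
  have hfix : u * (v * w * v⁻¹ * w⁻¹) * u⁻¹ = v * w * v⁻¹ * w⁻¹ := by
    have hzv : v * z = z * v := mem_center_iff.1 hz v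
    have h1 : c * (v * (z * w) * v⁻¹) * c⁻¹ = v * (z * w) * v⁻¹ := by
      refine mul_inv_eq_iff_eq_mul.2 ?_
      have hzC : v * (z * w) * v⁻¹ = z * (v * w * v⁻¹) := by
        rw [← mul_assoc v z w, hzv]; group
      rw [hzC, ← mul_assoc c z, mem_center_iff.1 hz c, mul_assoc z c, mul_assoc z _ c]
      congr 1
      exact (commute_iff.1 (D.le_cent hT hx hxc (reg_of_pel D.hp hq hqp hvw.2) hvw.1 hcomm)).eq
    calc u * (v * w * v⁻¹ * w⁻¹) * u⁻¹ = c * (v * (u * w * u⁻¹) * v⁻¹) * c⁻¹ * (u * w * u⁻¹)⁻¹ := by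
          rw [hcdef]; group
      _ = v * (z * w) * v⁻¹ * (z * w)⁻¹ := by rw [hzw, h1]
      _ = v * w * v⁻¹ * w⁻¹ := by
          rw [← mul_assoc v z w, hzv, mul_inv_rev]
          calc z * v * w * v⁻¹ * (w⁻¹ * z⁻¹) = z * (v * w * v⁻¹ * w⁻¹) * z⁻¹ := by group
            _ = v * w * v⁻¹ * w⁻¹ := by
              rw [← mem_center_iff.1 hz (v * w * v⁻¹ * w⁻¹), mul_inv_cancel_right]
  have hac : v * w * v⁻¹ * w⁻¹ ∈ center G := by
    by_contra hac
    exact huC (D.semireg hT hx hxc (reg_of_pel D.hp hq hqp haT.2) hac haT.1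
      (mul_inv_eq_iff_eq_mul.1 hfix))
  exact D.semireg_pow hT hx hxc hq hqp hw hwc hv hac hn hco

end CfsgLib.PRegTwo
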